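import Groth.Agent.Lib.RFPlus.Acyclic
import Groth.Agent.Lib.EtColim.Torsion
import Groth.Agent.Lib.BcMapQ6.Torsion
import Mathlib.Algebra.Category.Grp.Adjunctions
import Mathlib.Algebra.FreeAbelianGroup.Finsupp
import Mathlib.CategoryTheory.Sites.Limits

/-!
# Torsion sheaves embed in torsion sheaves acyclic for a direct image
-/

set_option autoImplicit false
set_option linter.style.haveILetI false
set_option linter.unusedSectionVars false
set_option backward.isDefEq.respectTransparency false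
set_option backward.isDefEq.respectTransparency.types false

universe u v v' w

open CategoryTheory CategoryTheory.Limits Opposite AlgebraicGeometry

noncomputable section

namespace Groth.Agent.TorsAcyc5

section Generic

variable {C : Type w} [Category.{v} C] [Abelian C] [EnoughInjectives C] {D : Type*} [Category.{v'} D] [Abelian D]
  (F : C ⥤ D) [F.Additive]

open RFPlus in
theorem nonempty_rightDerived_one [PreservesFiniteLimits F] (S : ShortComplex C) (hS : S.ShortExact)
    (h₂ : IsZero ((F.rightDerived 1).obj S.X₂)) : Nonempty ((F.rightDerived 1).obj S.X₁ ≅ cokernel (F.map S.g)) := by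
  letI := HasDerivedCategory.standard C
  letI := HasDerivedCategory.standard D
  obtain ⟨w₂, δ, w₃, w₁, e₂, e₃, e₁⟩ := exists_long_exact_sing F S hS (0 : ℕ)
  haveI : Epi δ := e₁.epi_f ((h₂.of_iso (rightDerivedIso F S.X₂ 1)).eq_of_tgt _ _)
  haveI := isIso_η F S.X₂
  haveI := isIso_η F S.X₃
  exact ⟨(rightDerivedIso F S.X₁ 1).symm ≪≫
    IsColimit.coconePointUniqueUpToIso e₃.gIsCokernel (cokernelIsCokernel _) ≪≫
    (cokernel.mapIso _ _ (asIso (η F S.X₂)) (asIso (η F S.X₃)) (η_naturality F S.g)).symm⟩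

open RFPlus in
theorem nonempty_rightDerived_succ (S : ShortComplex C) (hS : S.ShortExact) (n : ℕ)
    (h : IsZero ((F.rightDerived n).obj S.X₂)) (h' : IsZero ((F.rightDerived (n + 1)).obj S.X₂)) :
    Nonempty ((F.rightDerived n).obj S.X₃ ≅ (F.rightDerived (n + 1)).obj S.X₁) := by
  letI := HasDerivedCategory.standard C
  letI := HasDerivedCategory.standard D
  obtain ⟨w₂, δ, w₃, w₁, e₂, e₃, e₁⟩ := exists_long_exact_sing F S hS (n : ℤ)
  haveI : Epi δ := e₁.epi_f ((h'.of_iso (rightDerivedIso F S.X₂ (n + 1))).eq_of_tgt _ _)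
  haveI : Mono δ := e₃.mono_g ((h.of_iso (rightDerivedIso F S.X₂ n)).eq_of_src _ _)
  haveI : IsIso δ := isIso_of_mono_of_epi δ
  exact ⟨(rightDerivedIso F S.X₃ n).symm ≪≫ asIso δ ≪≫ rightDerivedIso F S.X₁ (n + 1)⟩

end Generic

variable {X : Scheme.{u}}

/-- The free presheaf on an object. -/
abbrev freeAt (U : X.Etale) : X.Etaleᵒᵖ ⥤ AddCommGrpCat.{u + 1} :=
  uliftYoneda.{u + 1}.obj U ⋙ AddCommGrpCat.free.{u + 1}

theorem freeAt_torsionFree (U : X.Etale) (a : ℤ) (ha : a ≠ 0) : Mono (a • 𝟙 (freeAt U)) := by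
  haveI : ∀ V, Mono ((a • 𝟙 (freeAt U)).app V) := fun V => by
    rw [AddCommGrpCat.mono_iff_injective]
    intro x y hxy
    have h : a • x = a • y := hxy
    refine (FreeAbelianGroup.equivFinsupp _).injective (smul_right_injective _ ha ?_)
    simpa only [map_zsmul] using congrArg (FreeAbelianGroup.equivFinsupp _) h
  exact NatTrans.mono_of_mono_app _

/-- Injective sheaves are divisible. -/
theorem surjective_zsmul (J : EtCoh.Ab X) [Injective J] (U : X.Etale) (a : ℤ) (ha : a ≠ 0) :
    Function.Surjective (fun s : J.obj.obj (op U) => a • s) := by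
  intro s
  haveI : Injective J.obj :=
    (sheafificationAdjunction X.smallEtaleTopology AddCommGrpCat.{u + 1}).map_injective J inferInstance
  let e := fun (G : X.Etaleᵒᵖ ⥤ AddCommGrpCat.{u + 1}) =>
    ((AddCommGrpCat.adj.{u + 1}.whiskerRight X.Etaleᵒᵖ).homEquiv (uliftYoneda.{u + 1}.obj U) G).trans
      (uliftYonedaEquiv (F := G ⋙ forget AddCommGrpCat.{u + 1}))
  haveI := freeAt_torsionFree U a ha
  let φ : freeAt U ⟶ J.obj := (e J.obj).symm s
  let ψ : freeAt U ⟶ J.obj := Injective.factorThru φ (a • 𝟙 (freeAt U))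
  refine ⟨e J.obj ψ, ?_⟩
  have h1 : a • ψ = φ := by
    have h := Injective.comp_factorThru φ (a • 𝟙 (freeAt U))
    rwa [Preadditive.zsmul_comp, Category.id_comp] at h
  have h2 : ∀ χ : freeAt U ⟶ J.obj, e J.obj χ =
      χ.app (op U) (FreeAbelianGroup.of (ULift.up (𝟙 U))) := fun χ => rfl
  calc a • e J.obj ψ = e J.obj (a • ψ) := by rw [h2, h2]; rfl
    _ = s := by rw [h1]; exact (e J.obj).apply_symm_apply s

theorem epi_zsmul_push {S : Scheme.{u}} (f : X ⟶ S) (J : EtCoh.Ab X) [Injective J] (a : ℤ) (ha : a ≠ 0) :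
    Epi ((EtCoh.push f).map (a • 𝟙 J)) := by
  refine (sheafToPresheaf _ _).epi_of_epi_map ?_
  haveI : ∀ V, Epi (((sheafToPresheaf _ _).map ((EtCoh.push f).map (a • 𝟙 J))).app V) := fun V => by
    rw [AddCommGrpCat.epi_iff_surjective]
    exact surjective_zsmul J _ a ha
  exact NatTrans.epi_of_epi_app _

theorem epi_zsmul (J : EtCoh.Ab X) [Injective J] (a : ℤ) (ha : a ≠ 0) : Epi (a • 𝟙 J) := by
  refine (sheafToPresheaf _ _).epi_of_epi_map ?_
  haveI : ∀ V, Epi (((sheafToPresheaf _ _).map (a • 𝟙 J)).app V) := fun V => by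
    rw [AddCommGrpCat.epi_iff_surjective]
    exact surjective_zsmul J _ a ha
  exact NatTrans.epi_of_epi_app _

/-- The kernel of multiplication on an injective sheaf is acyclic. -/
theorem isZero_Rpush_kernel {S : Scheme.{u}} (f : X ⟶ S) (J : EtCoh.Ab X) [Injective J] (a : ℤ) (ha : a ≠ 0)
    (q : ℕ) (hq : 0 < q) : IsZero ((EtCoh.Rpush f q).obj (kernel (a • 𝟙 J))) := by
  haveI := epi_zsmul J a ha
  have hS : (ShortComplex.mk _ _ (kernel.condition (a • 𝟙 J))).ShortExact :=
    ShortComplex.ShortExact.mk' (ShortComplex.exact_of_f_is_kernel _ (kernelIsKernel _)) inferInstance ‹_›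
  have h0 : ∀ n, IsZero (((EtCoh.push f).rightDerived (n + 1)).obj J) := fun n =>
    Functor.isZero_rightDerived_obj_injective_succ _ n J
  obtain ⟨n, rfl⟩ : ∃ n, q = n + 1 := ⟨q - 1, by omega⟩
  cases n with
  | zero =>
    haveI : PreservesFiniteLimits (EtCoh.push f) :=
      haveI := (EtCoh.pullPushAdj f).isRightAdjoint
      inferInstance
    obtain ⟨e⟩ := nonempty_rightDerived_one (EtCoh.push f) _ hS (h0 0)
    haveI := epi_zsmul_push f J a ha
    exact (isZero_cokernel_of_epi _).of_iso e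
  | succ m =>
    obtain ⟨e⟩ := nonempty_rightDerived_succ (EtCoh.push f) _ hS (m + 1) (h0 m) (h0 (m + 1))
    exact (h0 m).of_iso e.symm

/-- A colimit of sheaves killed by positive integers is torsion. -/
theorem isTorsion_pt {K : Type (u + 1)} [SmallCategory K] [IsFiltered K] (D : K ⥤ EtCoh.Ab X) {c : Cocone D} (hc : IsColimit c)
    (h : ∀ k, ∃ n : ℕ, 0 < n ∧ EtCoh.KilledBy n (D.obj k)) : EtCoh.IsTorsion c.pt := by
  let E := colimit.cocone (D ⋙ sheafToPresheaf X.smallEtaleTopology AddCommGrpCat.{u + 1})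
  let e := hc.coconePointUniqueUpToIso (Sheaf.isColimitSheafifyCocone E (colimit.isColimit _))
  refine EtColim.isTorsion_of_iso e.symm ?_
  intro U s x
  have h1 : Presheaf.imageSieve (toSheafify X.smallEtaleTopology E.pt) s ∈ X.smallEtaleTopology U :=
    Presheaf.imageSieve_mem _ _ s
  obtain ⟨V, g, v, ⟨t, ht⟩, hv⟩ := (EtSite.mem_et_iff _ _).1 h1 x
  refine ⟨V, g, ⟨v, hv⟩, ?_⟩
  obtain ⟨k, r, hr⟩ := Concrete.isColimit_exists_rep _
    (isColimitOfPreserves ((evaluation _ AddCommGrpCat.{u + 1}).obj (op V)) (colimit.isColimit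
      (D ⋙ sheafToPresheaf X.smallEtaleTopology AddCommGrpCat.{u + 1}))) t
  obtain ⟨n, hn, hk⟩ := h k
  refine isOfFinAddOrder_iff_nsmul_eq_zero.2 ⟨n, hn, ?_⟩
  have h2 : n • t = 0 := by
    rw [← hr]
    refine (map_nsmul _ n r).symm.trans ?_
    erw [hk V r, map_zero]
  refine (congrArg (n • ·) ht).symm.trans ?_
  exact (map_nsmul _ n t).symm.trans ((congrArg _ h2).trans (map_zero _))

theorem killedBy_kernel (J : EtCoh.Ab X) (m : ℕ) :
    EtCoh.KilledBy m.factorial (kernel (EtColim.mulFact J m)) := by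
  intro V r
  let ι := kernel.ι (EtColim.mulFact J m)
  haveI : Mono (ι.hom.app (op V)) :=
    inferInstanceAs (Mono (((sheafToPresheaf _ _) ⋙ (evaluation _ _).obj (op V)).map ι))
  refine (AddCommGrpCat.mono_iff_injective (ι.hom.app (op V))).1 inferInstance ?_
  rw [map_nsmul, map_zero]
  have h0 : (EtColim.mulFact J m).hom.app (op V) (ι.hom.app (op V) r) = 0 :=
    ConcreteCategory.congr_hom (congrArg (fun φ => φ.hom.app (op V)) (kernel.condition (EtColim.mulFact J m))) r
  rw [← natCast_zsmul]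
  exact h0

theorem exists_torsion_acyclic {S : Scheme.{u}} (f : X ⟶ S) [QuasiCompact f] [QuasiSeparated f]
    (F : EtCoh.Ab X) (hF : EtCoh.IsTorsion F) :
    ∃ (I : EtCoh.Ab X) (ι : F ⟶ I), Mono ι ∧ EtCoh.IsTorsion I ∧
      ∀ q : ℕ, 0 < q → IsZero ((EtCoh.Rpush f q).obj I) := by
  haveI : IsFiltered (ULift.{u + 1} ℕ) := isFiltered_of_directed_le_nonempty _
  haveI := EtColim.isIso_desc F hF
  let J := Injective.under F
  let φ : F ⟶ J := Injective.ι F
  let D := EtColim.torDiag J
  let τ : EtColim.torDiag F ⟶ D :=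
    { app := fun m => kernel.map _ _ φ φ (by
        simp only [EtColim.mulFact, Preadditive.zsmul_comp, Preadditive.comp_zsmul, Category.id_comp, Category.comp_id])
      naturality := fun m k h => equalizer.hom_ext (by simp [D, EtColim.torDiag, kernel.map]) }
  let ι := inv (colimit.desc (EtColim.torDiag F) (EtColim.torCocone F)) ≫ colimMap τ
  refine ⟨colimit D, ι, ?_, isTorsion_pt D (colimit.isColimit D) fun m =>
    ⟨_, m.down.factorial_pos, killedBy_kernel J m.down⟩, fun q hq => ?_⟩
  · have h : ι ≫ colimit.desc D (EtColim.torCocone J) = φ := by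
      simp only [ι, Category.assoc, IsIso.inv_comp_eq]
      refine colimit.hom_ext fun m => ?_
      simp [τ, D, EtColim.torCocone, kernel.map]
    haveI : Mono (ι ≫ colimit.desc D (EtColim.torCocone J)) := by
      rw [h]
      exact inferInstanceAs (Mono (Injective.ι F))
    exact mono_of_mono ι (colimit.desc D (EtColim.torCocone J))
  · haveI := BcMapQ6.preservesColimitsOfShape_Rpush f q
    refine IsZero.of_iso ?_ (preservesColimitIso (EtCoh.Rpush f q) D)
    refine (IsZero.iff_id_eq_zero _).2 (colimit.hom_ext fun m => ?_)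
    exact (isZero_Rpush_kernel f J _ (Int.natCast_ne_zero.2 m.down.factorial_ne_zero) q hq).eq_of_src _ _

end Groth.Agent.TorsAcyc5

end
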